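import Groth.Agent.Lib.HopfMod.Basic
import Groth.Agent.Lib.Comodule.CoactAlg
import Mathlib.RingTheory.Ideal.Cotangent
import Mathlib.RingTheory.Nakayama
import Mathlib.RingTheory.Noetherian.Basic
import Mathlib.RingTheory.Finiteness.Cardinality

/-!
# Stable ideals, their conormal modules, and invariant generators
-/

open TensorProduct HopfRep Groth.Agent.Comodule

universe u v w w'

namespace Groth.Agent.HopfMod

set_option linter.unusedSectionVars false
set_option linter.style.haveILetI false

section Tens

variable {k : Type u} [Field k] {A : Type v} [CommRing A] [Bialgebra k A]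
variable {V : Type w} [AddCommGroup V] [Module k V]

lemma mem_tens_iff (N : Submodule k V) (t : V ⊗[k] A) :
    t ∈ tens A N ↔ ∀ g : A →ₗ[k] k, TensorProduct.rid k V (g.lTensor V t) ∈ N := by
  constructor
  · rintro ⟨y, rfl⟩ g
    induction y with
    | zero => simp
    | tmul n a => simp only [LinearMap.rTensor_tmul, LinearMap.lTensor_tmul, TensorProduct.rid_tmul]; exact N.smul_mem _ n.2
    | add p q hp hq => simp only [map_add]; exact add_mem hp hq
  · intro h
    classical
    let b := Module.Free.chooseBasis k A
    let e := TensorProduct.equivFinsuppOfBasisRight (M := V) b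
    have hc : ∀ j, e t j = TensorProduct.rid k V ((b.coord j).lTensor V t) := by
      intro j
      clear h
      induction t with
      | zero => simp
      | tmul v a => simp [e]
      | add p q hp hq => simp only [map_add, Finsupp.add_apply, hp, hq]
    rw [← e.symm_apply_apply t,
      show e.symm (e t) = (e t).sum fun i m => m ⊗ₜ[k] b i from
        TensorProduct.equivFinsuppOfBasisRight_symm_apply b (e t)]
    exact sum_mem fun i _ => tmul_mem_tens (by rw [hc]; exact h _) _

end Tens

section Ideal

variable {k : Type u} [Field k] {A : Type v} [CommRing A] [HopfAlgebra k A]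
variable {R : Type w} [CommRing R] [Algebra k R] [Comod k A R] [GLin.IsCoactAlg k A R]

lemma mul_mem_tens {F : Ideal R} (z : R ⊗[k] A) {t : R ⊗[k] A} (ht : t ∈ tens A (F.restrictScalars k)) :
    z * t ∈ tens A (F.restrictScalars k) := by
  obtain ⟨y, rfl⟩ := ht
  induction z with
  | zero => simp
  | add p q hp hq => rw [add_mul]; exact add_mem hp hq
  | tmul r a =>
    induction y with
    | zero => simp
    | add p q hp hq => rw [map_add, mul_add]; exact add_mem hp hq
    | tmul n a' =>
      rw [LinearMap.rTensor_tmul, Algebra.TensorProduct.tmul_mul_tmul]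
      exact tmul_mem_tens (F.mul_mem_left r n.2) _

lemma isSubcomod_span_invariants {s : Set R} (hs : s ⊆ GLin.invariants k A R) :
    IsSubcomod (k := k) (A := A) ((Ideal.span s).restrictScalars k) := by
  intro y hy
  show Comod.coact (k := k) (A := A) y ∈ tens A _
  induction hy using Submodule.span_induction with
  | mem y hy =>
    rw [show Comod.coact (k := k) (A := A) y = y ⊗ₜ[k] (1 : A) from hs hy]
    exact tmul_mem_tens (Ideal.subset_span hy) _
  | zero => simp
  | add a b _ _ ha hb => rw [map_add]; exact add_mem ha hb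
  | smul c y _ hy =>
    rw [smul_eq_mul, GLin.IsCoactAlg.coact_mul]
    exact mul_mem_tens _ hy

lemma colon_isSubcomod {I F : Ideal R} (hI : IsSubcomod (k := k) (A := A) (I.restrictScalars k))
    (hF : IsSubcomod (k := k) (A := A) (F.restrictScalars k)) (J : Submodule k R)
    (hJ : ∀ r, r ∈ J ↔ ∀ y ∈ I, r * y ∈ F) : IsSubcomod (k := k) (A := A) J := by
  intro r hr
  refine (mem_tens_iff J _).2 fun g => (hJ _).2 fun y hy => ?_
  let Θ : (R ⊗[k] A) ⊗[k] A →ₗ[k] R ⊗[k] A :=
    (LinearMap.mul' k A ∘ₗ (HopfAlgebraStruct.antipode (R := k) (A := A)).lTensor A).lTensor R ∘ₗ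
      (TensorProduct.assoc k R A A).toLinearMap
  have hkey : Comod.coact (k := k) (A := A) r * (y ⊗ₜ[k] (1 : A)) ∈ tens A (F.restrictScalars k) := by
    rw [← coact_antipode_right (k := k) (A := A) y]
    obtain ⟨z, hz⟩ := hI y hy
    rw [← hz]
    clear hz
    induction z with
    | zero => simp
    | add p q hp hq => simp only [map_add, mul_add]; exact add_mem hp hq
    | tmul n a =>
      rw [LinearMap.rTensor_tmul, LinearMap.rTensor_tmul]
      have : Θ (Comod.coact (k := k) (A := A) (n : R) ⊗ₜ[k] a) =
          Comod.coact (k := k) (A := A) (n : R) * ((1 : R) ⊗ₜ[k] HopfAlgebraStruct.antipode (R := k) a) := by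
        generalize Comod.coact (k := k) (A := A) (n : R) = d
        induction d with
        | zero => simp
        | add p q hp hq => simp only [TensorProduct.add_tmul, map_add, add_mul, hp, hq]
        | tmul x a' => simp [Θ]
      rw [show (LinearMap.lTensor R (LinearMap.mul' k A ∘ₗ (HopfAlgebraStruct.antipode (R := k) (A := A)).lTensor A))
          (TensorProduct.assoc k R A A (Comod.coact (k := k) (A := A) ((Submodule.subtype _) n) ⊗ₜ[k] a)) =
          Θ (Comod.coact (k := k) (A := A) (n : R) ⊗ₜ[k] a) from rfl, this, ← mul_assoc,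
        ← GLin.IsCoactAlg.coact_mul, mul_comm]
      exact mul_mem_tens _ (hF _ ((hJ r).1 hr n n.2))
  have h2 := (mem_tens_iff (F.restrictScalars k) _).1 hkey g
  have e : ∀ t : R ⊗[k] A, TensorProduct.rid k R (g.lTensor R (t * (y ⊗ₜ[k] (1 : A)))) =
      TensorProduct.rid k R (g.lTensor R t) * y := by
    intro t
    induction t with
    | zero => simp
    | add p q hp hq => simp only [add_mul, map_add, hp, hq]
    | tmul x a => simp
  rwa [e] at h2

end Ideal

section Reductive

variable {k : Type u} [Field k] {A : Type v} [CommRing A] [HopfAlgebra k A]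
variable {R : Type v} [CommRing R] [Algebra k R] [Comod k A R] [GLin.IsCoactAlg k A R]

lemma one_mem_fixedPts : (1 : R) ∈ fixedPts k A R := by
  show Comod.coact (k := k) (A := A) (1 : R) = (1 : R) ⊗ₜ[k] (1 : A)
  rw [GLin.IsCoactAlg.coact_one, Algebra.TensorProduct.one_def]

lemma isComodHom_mulRight {f : R} (hf : f ∈ GLin.invariants k A R) :
    Hoch.IsComodHom A (LinearMap.mulRight k f) := by
  refine LinearMap.ext fun r => ?_
  simp only [LinearMap.comp_apply, LinearMap.mulRight_apply]
  rw [GLin.IsCoactAlg.coact_mul, show Comod.coact (k := k) (A := A) f = f ⊗ₜ[k] (1 : A) from hf]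
  generalize Comod.coact (k := k) (A := A) r = z
  induction z with
  | zero => simp
  | tmul x a => simp
  | add p q hp hq => simp only [add_mul, map_add, hp, hq]

lemma reynolds_mul_invariant (hG : IsLinearlyReductive k A) {E : R →ₗ[k] R}
    (hE : IsReynolds (A := A) E) (r : R) {f : R} (hf : f ∈ GLin.invariants k A R) :
    E (r * f) = E r * f :=
  LinearMap.congr_fun (hE.comp_comm hG hE (isComodHom_mulRight hf)) r

/-- An invariant conductor. -/
theorem exists_invariant_conductor (hG : IsLinearlyReductive k A) {I : Ideal R}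
    (hI : IsSubcomod (k := k) (A := A) (I.restrictScalars k)) {s : Set R}
    (hs : s ⊆ GLin.invariants k A R) {b : R} (hb : b - 1 ∈ I) (hbI : ∀ y ∈ I, b * y ∈ Ideal.span s) :
    ∃ b ∈ GLin.invariants k A R, b - 1 ∈ I ∧ ∀ y ∈ I, b * y ∈ Ideal.span s := by
  obtain ⟨E, hE⟩ := exists_reynolds (V := R) (A := A) hG
  let J : Submodule k R :=
    { carrier := {r | ∀ y ∈ I, r * y ∈ Ideal.span s}
      add_mem' := fun {a c} ha hc y hy => by rw [add_mul]; exact add_mem (ha y hy) (hc y hy)
      zero_mem' := fun y _ => by rw [zero_mul]; exact zero_mem _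
      smul_mem' := fun c a ha y hy => by
        rw [smul_mul_assoc, Algebra.smul_def]; exact Ideal.mul_mem_left _ _ (ha y hy) }
  have hJ := colon_isSubcomod hI (isSubcomod_span_invariants hs) J fun r => Iff.rfl
  refine ⟨E b, hE.mem b, ?_, hE.apply_mem hG hJ hbI⟩
  have h1 := hE.apply_mem hG hI (x := b - 1) hb
  rwa [map_sub, (hE.fix 1).2 one_mem_fixedPts] at h1

/-- An invariant in an ideal generated by invariants is a combination with invariant coefficients. -/
lemma invariant_mem_span (hG : IsLinearlyReductive k A) {ι : Type*} [Fintype ι] {f : ι → GLin.invariants k A R}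
    {x : GLin.invariants k A R} (hx : (x : R) ∈ Ideal.span (Set.range fun i => (f i : R))) :
    x ∈ Ideal.span (Set.range f) := by
  obtain ⟨E, hE⟩ := exists_reynolds (V := R) (A := A) hG
  obtain ⟨c, hc⟩ := (Submodule.mem_span_range_iff_exists_fun R).1 hx
  refine (Submodule.mem_span_range_iff_exists_fun _).2 ⟨fun i => ⟨E (c i), hE.mem _⟩, Subtype.ext ?_⟩
  have h := congrArg E hc
  simp only [map_sum, smul_eq_mul, (hE.fix _).2 x.2] at h
  rw [Finset.sum_congr rfl fun i _ => reynolds_mul_invariant hG hE (c i) (f i).2] at h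
  rw [← h]
  simp

/-- Fixed vectors of a finite module are generated by finitely many over the invariants. -/
theorem exists_finset_fixed_generators (hG : IsLinearlyReductive k A) [IsNoetherianRing R]
    {M : Type v} [AddCommGroup M] [Module k M] [Module R M] [IsScalarTower k R M] [Module.Finite R M]
    [Comod k A M] [TameAct.IsHopfMod k A R M] :
    ∃ s : Finset M, (↑s : Set M) ⊆ (fixedPts k A M : Set M) ∧
      ∀ m ∈ fixedPts k A M, ∃ c : M → R, (∀ y, c y ∈ GLin.invariants k A R) ∧ m = ∑ y ∈ s, c y • y := by
  classical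
  haveI : IsNoetherian R M := isNoetherian_of_isNoetherianRing_of_finite R M
  obtain ⟨s, hs, hspan⟩ := Submodule.fg_span_iff_fg_span_finset_subset (fixedPts k A M : Set M) |>.1
    (IsNoetherian.noetherian (Submodule.span R (fixedPts k A M : Set M)))
  refine ⟨s, hs, fun m hm => ?_⟩
  obtain ⟨E, hE⟩ := exists_reynolds (V := R) (A := A) hG
  obtain ⟨EM, hEM⟩ := exists_reynolds (V := M) (A := A) hG
  have hm' : m ∈ Submodule.span R (↑s : Set M) := by rw [← hspan]; exact Submodule.subset_span hm
  obtain ⟨c, -, hc⟩ := Submodule.mem_span_finset.1 hm'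
  refine ⟨fun y => E (c y), fun y => hE.mem _, ?_⟩
  have h := congrArg EM hc
  rw [map_sum, (hEM.fix m).2 hm] at h
  rw [← h]
  refine Finset.sum_congr rfl fun y hy => ?_
  exact LinearMap.congr_fun (hE.comp_comm hG hEM (isComodHom_smul_fixed (M := M) (B := R) (hs hy))) (c y)

end Reductive

section Quotient

variable {k : Type u} [CommRing k] {A : Type v} [CommRing A] [Bialgebra k A]
variable {V : Type w} [AddCommGroup V] [Module k V] [Comod k A V]
variable {W : Type w'} [AddCommGroup W] [Module k W]

/-- A comodule structure on a quotient. -/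
@[reducible] def quotComod (f : V →ₗ[k] W) (hf : Function.Surjective f) (ρ : W →ₗ[k] W ⊗[k] A)
    (hρ : ∀ v, ρ (f v) = f.rTensor A (Comod.coact (k := k) (A := A) v)) : Comod k A W where
  coact := ρ
  coassoc := by
    refine LinearMap.ext fun w => ?_
    obtain ⟨v, rfl⟩ := hf w
    have h := congrArg (f.rTensor (A ⊗[k] A)) (LinearMap.congr_fun (Comod.coassoc (k := k) (A := A) (V := V)) v)
    simp only [LinearMap.comp_apply, LinearEquiv.coe_coe] at h ⊢
    rw [hρ]
    have e : ρ.rTensor A ∘ₗ f.rTensor A = (f.rTensor A).rTensor A ∘ₗ (Comod.coact (k := k) (A := A)).rTensor A := by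
      rw [← LinearMap.rTensor_comp, ← LinearMap.rTensor_comp]
      exact congrArg _ (LinearMap.ext hρ)
    rw [← LinearMap.comp_apply (ρ.rTensor A), e, LinearMap.comp_apply]
    have e1 : ∀ z, TensorProduct.assoc k W A A ((f.rTensor A).rTensor A z) =
        f.rTensor (A ⊗[k] A) (TensorProduct.assoc k V A A z) := by
      intro z
      refine LinearMap.congr_fun (?_ : (TensorProduct.assoc k W A A).toLinearMap ∘ₗ (f.rTensor A).rTensor A =
        f.rTensor (A ⊗[k] A) ∘ₗ (TensorProduct.assoc k V A A).toLinearMap) z
      ext; rfl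
    rw [e1, h]
    generalize Comod.coact (k := k) (A := A) v = y
    induction y with
    | zero => simp
    | tmul x a => rfl
    | add p q hp hq => simp only [map_add, hp, hq]
  counit_comp := by
    refine LinearMap.ext fun w => ?_
    obtain ⟨v, rfl⟩ := hf w
    have h := congrArg (f.rTensor k) (LinearMap.congr_fun (Comod.counit_comp (k := k) (A := A) (V := V)) v)
    simp only [LinearMap.comp_apply] at h ⊢
    rw [hρ]
    rw [← LinearMap.comp_apply (LinearMap.lTensor _ _), LinearMap.lTensor_comp_rTensor, ← LinearMap.rTensor_comp_lTensor,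
      LinearMap.comp_apply, h]
    simp

end Quotient

section Cotangent

variable {k : Type u} [Field k] {A : Type v} [CommRing A] [HopfAlgebra k A]
variable {R : Type w} [CommRing R] [Algebra k R] [Comod k A R] [GLin.IsCoactAlg k A R]
variable (I : Ideal R) (hIs : IsSubcomod (k := k) (A := A) (I.restrictScalars k))

/-- The projection of a stable ideal to its conormal module. -/
noncomputable def toCot : (I.restrictScalars k : Submodule k R) →ₗ[k] I.Cotangent :=
  I.toCotangent.restrictScalars k

lemma toCot_surjective : Function.Surjective (toCot (k := k) I) :=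
  I.toCotangent_surjective

/-- The coaction of a stable ideal, pushed to the conormal module. -/
noncomputable def toT : (I.restrictScalars k : Submodule k R) →ₗ[k] I.Cotangent ⊗[k] A :=
  (toCot (k := k) I).rTensor A ∘ₗ coactRestrict _ hIs

lemma toT_mul (a : R) (y : (I.restrictScalars k : Submodule k R)) (hy : a * (y : R) ∈ I.restrictScalars k) :
    toT I hIs ⟨a * y, hy⟩ =
      TameAct.hmSMul k A R I.Cotangent (Comod.coact (k := k) (A := A) a) (toT I hIs y) := by
  obtain ⟨z, hz⟩ : ∃ z, z = coactRestrict _ hIs y := ⟨_, rfl⟩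
  have hz' : Comod.coact (k := k) (A := A) (y : R) = (I.restrictScalars k).subtype.rTensor A z := by
    rw [hz]; exact (rTensor_coactRestrict _ hIs y).symm
  let μ : R ⊗[k] A →ₗ[k] (I.restrictScalars k : Submodule k R) ⊗[k] A →ₗ[k]
      (I.restrictScalars k : Submodule k R) ⊗[k] A :=
    TensorProduct.map₂ ((Algebra.lsmul k k I : R →ₐ[k] Module.End k I).toLinearMap) (LinearMap.mul k A)
  have h1 : coactRestrict _ hIs (⟨a * y, hy⟩ : (I.restrictScalars k : Submodule k R)) =
      μ (Comod.coact (k := k) (A := A) a) z := by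
    apply rTensor_subtype_injective (A := A) (I.restrictScalars k)
    rw [rTensor_coactRestrict, GLin.IsCoactAlg.coact_mul, hz']
    generalize Comod.coact (k := k) (A := A) a = d
    clear hz hz'
    induction d with
    | zero => simp
    | add p q hp hq => simp only [add_mul, map_add, LinearMap.add_apply, hp, hq]
    | tmul b c =>
      induction z with
      | zero => simp
      | add p q hp hq => simp only [map_add, mul_add, hp, hq]
      | tmul n c' =>
        rw [LinearMap.rTensor_tmul, Algebra.TensorProduct.tmul_mul_tmul]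
        show _ = ((b • (⟨n.1, n.2⟩ : I) : I) : R) ⊗ₜ[k] (c * c')
        rfl
  rw [toT, LinearMap.comp_apply, LinearMap.comp_apply, h1, ← hz]
  generalize Comod.coact (k := k) (A := A) a = d
  clear hz hz' h1
  induction d with
  | zero => simp
  | add p q hp hq => simp only [map_add, LinearMap.add_apply, hp, hq]
  | tmul b c =>
    induction z with
    | zero => simp
    | add p q hp hq => simp only [map_add, hp, hq]
    | tmul n c' =>
      show toCot I (b • n : I) ⊗ₜ[k] (c * c') = (b • toCot I n) ⊗ₜ[k] (c * c')
      rw [show toCot (k := k) I (b • n : I) = b • toCot I n from I.toCotangent.map_smul b n]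

lemma cotangent_smul_eq_zero {b : R} (m : I.Cotangent) (hb : b ∈ I) : b • m = 0 := by
  obtain ⟨y, rfl⟩ := I.toCotangent_surjective m
  rw [← map_smul, Ideal.toCotangent_eq_zero, sq]
  exact Ideal.mul_mem_mul hb y.2

lemma toT_eq_zero (y : (I.restrictScalars k : Submodule k R)) (hy : toCot I y = 0) : toT I hIs y = 0 := by
  have hy' : (y : R) ∈ I * I := by rw [← sq]; exact (Ideal.toCotangent_eq_zero I y).1 hy
  suffices ∀ v ∈ I * I, v ∈ I ∧ ∀ hv : v ∈ I.restrictScalars k, toT I hIs ⟨v, hv⟩ = 0 from (this _ hy').2 y.2
  intro v hv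
  refine Submodule.mul_induction_on hv (fun a ha c hc => ⟨Ideal.mul_mem_left _ _ hc, fun hv => ?_⟩)
    (fun a c ha hc => ⟨add_mem ha.1 hc.1, fun hv => ?_⟩)
  · rw [toT_mul I hIs a ⟨c, hc⟩ hv]
    obtain ⟨w, hw⟩ := hIs a ha
    rw [← hw]
    generalize toT I hIs ⟨c, hc⟩ = t
    clear hw
    induction w with
    | zero => simp
    | add p q hp hq => simp only [map_add, LinearMap.add_apply, hp, hq, add_zero]
    | tmul n c' =>
      induction t with
      | zero => simp
      | add p q hp hq => simp only [map_add, hp, hq, add_zero]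
      | tmul m c'' => simp [cotangent_smul_eq_zero I m n.2]
  · rw [show (⟨a + c, hv⟩ : (I.restrictScalars k : Submodule k R)) = ⟨a, ha.1⟩ + ⟨c, hc.1⟩ from rfl,
      map_add, ha.2 ha.1, hc.2 hc.1, add_zero]

/-- The coaction on the conormal module. -/
noncomputable def cotCoact : I.Cotangent →ₗ[k] I.Cotangent ⊗[k] A :=
  (LinearMap.ker (toCot I)).liftQ (toT I hIs) (fun y hy => toT_eq_zero I hIs y hy) ∘ₗ
    ((toCot (k := k) I).quotKerEquivOfSurjective (toCot_surjective I)).symm.toLinearMap

lemma cotCoact_toCot (y : (I.restrictScalars k : Submodule k R)) :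
    cotCoact I hIs (toCot I y) = toT I hIs y := by
  have : ((toCot (k := k) I).quotKerEquivOfSurjective (toCot_surjective I)).symm (toCot I y) =
      (LinearMap.ker (toCot I)).mkQ y :=
    (LinearEquiv.symm_apply_eq _).2 rfl
  rw [cotCoact, LinearMap.comp_apply, LinearEquiv.coe_coe, this]
  rfl

/-- The comodule structure on the conormal module of a stable ideal. -/
@[reducible] noncomputable def cotComod : Comod k A I.Cotangent :=
  letI := subComod _ hIs
  quotComod (toCot I) (toCot_surjective I) (cotCoact I hIs) (cotCoact_toCot I hIs)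

lemma cot_isHopfMod : letI := cotComod I hIs; TameAct.IsHopfMod k A R I.Cotangent := by
  letI := cotComod I hIs
  refine ⟨fun a m => ?_⟩
  obtain ⟨y, rfl⟩ := toCot_surjective (k := k) I m
  have hy : a * (y : R) ∈ I.restrictScalars k := Ideal.mul_mem_left _ _ y.2
  show cotCoact I hIs (a • toCot I y) = TameAct.hmSMul k A R I.Cotangent _ (cotCoact I hIs (toCot I y))
  rw [cotCoact_toCot, ← toT_mul I hIs a y hy, ← cotCoact_toCot I hIs ⟨a * (y : R), hy⟩]
  congr 1

lemma isComodHom_toCot :
    letI := subComod _ hIs
    letI := cotComod I hIs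
    Hoch.IsComodHom A (toCot (k := k) I) :=
  letI := subComod _ hIs
  letI := cotComod I hIs
  LinearMap.ext fun y => cotCoact_toCot I hIs y

end Cotangent

section Basis

variable {k : Type u} [Field k] {A : Type v} [CommRing A] [HopfAlgebra k A]
variable {R : Type w} [CommRing R] [Algebra k R] [Comod k A R] [GLin.IsCoactAlg k A R]
variable {M : Type w'} [AddCommGroup M] [Module k M] [Module R M] [IsScalarTower k R M]
  [Comod k A M] [TameAct.IsHopfMod k A R M]
variable (I : Ideal R) [Module (R ⧸ I) M] [IsScalarTower R (R ⧸ I) M]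

/-- A basis of the fixed vectors is a basis over the orbit. -/
theorem fixed_linearIndependent_span (φ : R →ₐ[k] A) (hI : I = RingHom.ker φ)
    {α : A →ₗ[k] R} (hαφ : ∀ a, φ (α a) = a) (hker : ∀ (b : R) (m : M), φ b = 0 → b • m = 0)
    (hφ : Hoch.IsComodHom A φ.toLinearMap) {ι : Type*} (v : Module.Basis ι k (fixedPts k A M)) :
    LinearIndependent (R ⧸ I) (fun i => (v i : M)) ∧
      Submodule.span (R ⧸ I) (Set.range fun i => (v i : M)) = ⊤ := by
  have hli : LinearIndependent k (fun i => (v i : M)) :=
    v.linearIndependent.map' _ (Submodule.ker_subtype _)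
  refine ⟨?_, eq_top_iff.2 fun m hmtop => ?_⟩
  rotate_left
  clear hmtop
  rotate_left
  · rw [linearIndependent_iff']
    intro s g hg i hi
    choose g' hg' using fun j => Ideal.Quotient.mk_surjective (g j)
    rw [← hg', Ideal.Quotient.eq_zero_iff_mem, hI]
    refine eq_zero_of_sum_smul_eq_zero φ hαφ hker hφ hli (fun i => (v i).2) s g' ?_ i hi
    rw [← hg]
    refine Finset.sum_congr rfl fun j _ => ?_
    rw [← hg' j]
    exact (IsScalarTower.algebraMap_smul (R ⧸ I) _ _).symm
  · have hm : m ∈ Submodule.span R (fixedPts k A M : Set M) := by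
      rw [span_fixed φ hαφ hker hφ]; exact Submodule.mem_top
    induction hm using Submodule.span_induction with
    | mem y hy =>
      have := v.mem_span (⟨y, hy⟩ : fixedPts k A M)
      have h2 := Submodule.mem_map_of_mem (f := (fixedPts k A M).subtype) this
      rw [Submodule.map_span, ← Set.range_comp] at h2
      refine Submodule.span_induction (p := fun z _ => z ∈ Submodule.span (R ⧸ I) (Set.range fun i => (v i : M)))
        (fun z hz => Submodule.subset_span hz) (zero_mem _)
        (fun a b _ _ ha hb => add_mem ha hb) (fun c a _ ha => ?_) h2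
      rw [← IsScalarTower.algebraMap_smul R c a, ← IsScalarTower.algebraMap_smul (R ⧸ I) (algebraMap k R c) a]
      exact Submodule.smul_mem _ _ ha
    | zero => exact zero_mem _
    | add a b _ _ ha hb => exact add_mem ha hb
    | smul c a _ ha =>
      rw [← IsScalarTower.algebraMap_smul (R ⧸ I) c a]
      exact Submodule.smul_mem _ _ ha

end Basis

section Orbit

variable {k : Type u} [Field k] {A : Type u} [CommRing A] [HopfAlgebra k A]
variable {R : Type u} [CommRing R] [Algebra k R] [IsNoetherianRing R] [Comod k A R] [GLin.IsCoactAlg k A R]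

/-- Invariant generators of a free closed orbit, to first order. -/
theorem exists_cotangent_basis (hG : IsLinearlyReductive k A) (x : R →ₐ[k] k)
    (hx : Function.Surjective (GLin.orbitHom k A x)) (I : Ideal R) (hI : I = RingHom.ker (GLin.orbitHom k A x)) :
    ∃ (r : ℕ) (f : Fin r → GLin.invariants k A R) (hf : ∀ i, (f i : R) ∈ I),
      LinearIndependent (R ⧸ I) (fun i => I.toCotangent ⟨(f i : R), hf i⟩) ∧
      Submodule.span (R ⧸ I) (Set.range fun i => I.toCotangent ⟨(f i : R), hf i⟩) = ⊤ := by
  classical
  have hIs : IsSubcomod (k := k) (A := A) (I.restrictScalars k) := hI ▸ isSubcomod_ker_orbitHom x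
  letI cI : Comod k A (I.restrictScalars k : Submodule k R) := subComod _ hIs
  letI cM : Comod k A I.Cotangent := cotComod I hIs
  haveI : TameAct.IsHopfMod k A R I.Cotangent := cot_isHopfMod I hIs
  obtain ⟨α, hα⟩ := (GLin.orbitHom k A x).toLinearMap.exists_rightInverse_of_surjective
    (LinearMap.range_eq_top.2 hx)
  have hker : ∀ (b : R) (m : I.Cotangent), GLin.orbitHom k A x b = 0 → b • m = 0 := fun b m hb =>
    cotangent_smul_eq_zero I m (hI ▸ hb)
  let v := Module.Basis.ofVectorSpace k (fixedPts k A I.Cotangent)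
  obtain ⟨hLI, hsp⟩ := fixed_linearIndependent_span I (GLin.orbitHom k A x) hI
    (fun a => LinearMap.congr_fun hα a) hker (isComodHom_orbitHom x) v
  haveI : Module.Finite R I.Cotangent :=
    Module.Finite.of_surjective I.toCotangent I.toCotangent_surjective
  haveI : Nontrivial A := ⟨⟨1, 0, fun h => by
    have := congrArg (Coalgebra.counit (R := k)) h; simp at this⟩⟩
  haveI : Nontrivial (R ⧸ I) := Ideal.Quotient.nontrivial_iff.2 (by rw [hI]; exact RingHom.ker_ne_top _)
  haveI : Module.Finite (R ⧸ I) I.Cotangent := Module.Finite.of_restrictScalars_finite R (R ⧸ I) I.Cotangent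
  haveI : Finite (Module.Basis.ofVectorSpaceIndex k (fixedPts k A I.Cotangent)) :=
    Module.Finite.finite_basis (Module.Basis.mk hLI hsp.ge)
  obtain ⟨r, ⟨e⟩⟩ := Finite.exists_equiv_fin (Module.Basis.ofVectorSpaceIndex k (fixedPts k A I.Cotangent))
  obtain ⟨EI, hEI⟩ := exists_reynolds (V := (I.restrictScalars k : Submodule k R)) (A := A) hG
  obtain ⟨EM, hEM⟩ := exists_reynolds (V := I.Cotangent) (A := A) hG
  choose y hy using fun i => toCot_surjective (k := k) I (v (e.symm i) : I.Cotangent)
  have hfix : ∀ i, ((EI (y i) : (I.restrictScalars k : Submodule k R)) : R) ∈ GLin.invariants k A R := by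
    intro i
    show Comod.coact (k := k) (A := A) _ = _
    have h := hEI.mem (y i)
    change coactRestrict _ hIs (EI (y i)) = _ at h
    rw [← rTensor_coactRestrict _ hIs (EI (y i)), h]
    rfl
  refine ⟨r, fun i => ⟨_, hfix i⟩, fun i => (EI (y i)).2, ?_⟩
  have heq : (fun i => I.toCotangent ⟨((EI (y i) : (I.restrictScalars k : Submodule k R)) : R), (EI (y i)).2⟩) =
      (fun i => (v i : I.Cotangent)) ∘ e.symm := by
    funext i
    show toCot (k := k) I (EI (y i)) = _
    rw [← LinearMap.comp_apply, ← hEI.comp_comm hG hEM (isComodHom_toCot I hIs), LinearMap.comp_apply, hy,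
      (hEM.fix _).2 (v (e.symm i)).2]
    rfl
  simp only [heq]
  refine ⟨hLI.comp _ e.symm.injective, ?_⟩
  rw [e.symm.surjective.range_comp]
  exact hsp

end Orbit

end Groth.Agent.HopfMod
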