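import Groth.Agent.Lib.HopfMod.Ideal

/-!
# Averaging linear maps between relative Hopf modules
-/

open TensorProduct HopfRep Groth.Agent.Comodule

universe u v w w' w''

namespace Groth.Agent.HopfMod

set_option linter.unusedSectionVars false

/-- A normalized invariant integral on a linearly reductive Hopf algebra. -/
theorem exists_integral {k : Type u} [Field k] {A : Type v} [CommRing A] [HopfAlgebra k A]
    (hG : IsLinearlyReductive k A) : ∃ l : A →ₗ[k] k, l 1 = 1 ∧
      ∀ y, TensorProduct.lid k A (l.rTensor A (CoalgebraStruct.comul (R := k) y)) = algebraMap k A (l y) := by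
  obtain ⟨E, hE⟩ := exists_reynolds (V := A) (A := A) hG
  have hfix : ∀ z, z ∈ fixedPts k A A → z = algebraMap k A (CoalgebraStruct.counit (R := k) z) := by
    intro z hz
    have h := Coalgebra.rTensor_counit_comul (R := k) z
    rw [show CoalgebraStruct.comul (R := k) z = z ⊗ₜ[k] (1 : A) from hz] at h
    have h2 := congrArg (TensorProduct.lid k A) h
    simp only [LinearMap.rTensor_tmul, TensorProduct.lid_tmul, one_smul] at h2
    rw [Algebra.algebraMap_eq_smul_one]
    exact h2.symm
  refine ⟨CoalgebraStruct.counit ∘ₗ E, ?_, fun y => ?_⟩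
  · rw [LinearMap.comp_apply, (hE.fix 1).2 (Bialgebra.comul_one.trans Algebra.TensorProduct.one_def)]
    exact Bialgebra.counit_one
  · have h := comodHom_apply hE.comodHom y
    rw [show Comod.coact (k := k) (A := A) (E y) = E y ⊗ₜ[k] (1 : A) from hE.mem y] at h
    have h2 := congrArg (fun t => TensorProduct.lid k A ((CoalgebraStruct.counit (R := k)).rTensor A t)) h
    simp only [LinearMap.rTensor_tmul, TensorProduct.lid_tmul] at h2
    rw [LinearMap.rTensor_comp_apply, Algebra.algebraMap_eq_smul_one]
    exact h2.symm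

variable {k : Type u} [CommRing k] {A : Type v} [CommRing A] [HopfAlgebra k A]
variable {R : Type w} [CommRing R] [Algebra k R] [Comod k A R]
variable {M : Type w'} [AddCommGroup M] [Module k M] [Comod k A M]
variable {V : Type w''} [AddCommGroup V] [Module k V]

/-- `x ⊗ c ⊗ a ↦ l (S c * a) • x`. -/
noncomputable def twist (l : A →ₗ[k] k) : (V ⊗[k] A) ⊗[k] A →ₗ[k] V :=
  (TensorProduct.rid k V).toLinearMap ∘ₗ
    (l ∘ₗ LinearMap.mul' k A ∘ₗ (HopfAlgebraStruct.antipode (R := k) (A := A)).rTensor A).lTensor V ∘ₗ
      (TensorProduct.assoc k V A A).toLinearMap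

@[simp] lemma twist_tmul (l : A →ₗ[k] k) (x : V) (c a : A) :
    twist l ((x ⊗ₜ[k] c) ⊗ₜ[k] a) = l (HopfAlgebraStruct.antipode (R := k) c * a) • x := by
  simp [twist]

variable [Comod k A V]


lemma comodHom_apply' {V' : Type*} [AddCommGroup V'] [Module k V'] [Comod k A V'] {g : V →ₗ[k] V'}
    (hg : Hoch.IsComodHom A g) (v : V) :
    Comod.coact (k := k) (A := A) (g v) = g.rTensor A (Comod.coact (k := k) (A := A) v) :=
  LinearMap.congr_fun hg v

/-- The average of a linear map. -/
noncomputable def avg (l : A →ₗ[k] k) (f : M →ₗ[k] V) : M →ₗ[k] V :=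
  twist l ∘ₗ (Comod.coact (k := k) (A := A) ∘ₗ f).rTensor A ∘ₗ Comod.coact (k := k) (A := A)

lemma avg_id {l : A →ₗ[k] k} (hl : l 1 = 1) : avg l (LinearMap.id : M →ₗ[k] M) = LinearMap.id := by
  refine LinearMap.ext fun m => ?_
  have h := congrArg (fun t => TensorProduct.rid k M (l.lTensor M t)) (coact_antipode_left (k := k) (A := A) m)
  simp only [LinearMap.lTensor_tmul, TensorProduct.rid_tmul, hl, one_smul] at h
  simp only [avg, LinearMap.comp_id, LinearMap.comp_apply, twist, LinearEquiv.coe_coe, LinearMap.id_apply]
  refine Eq.trans ?_ h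
  rw [LinearMap.lTensor_comp_apply]

lemma avg_sum (l : A →ₗ[k] k) {ι : Type*} (s : Finset ι) (f : ι → M →ₗ[k] V) :
    avg l (∑ i ∈ s, f i) = ∑ i ∈ s, avg l (f i) := by
  classical
  induction s using Finset.induction_on with
  | empty => simp [avg]
  | insert i s hi ih =>
    rw [Finset.sum_insert hi, Finset.sum_insert hi, ← ih]
    simp [avg, LinearMap.comp_add, LinearMap.add_comp, LinearMap.rTensor_add]

lemma comp_avg (l : A →ₗ[k] k) {V' : Type*} [AddCommGroup V'] [Module k V'] [Comod k A V'] {g : V →ₗ[k] V'}
    (hg : Hoch.IsComodHom A g) (f : M →ₗ[k] V) : g ∘ₗ avg l f = avg l (g ∘ₗ f) := by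
  refine LinearMap.ext fun m => ?_
  simp only [avg, LinearMap.comp_apply]
  generalize Comod.coact (k := k) (A := A) m = s
  induction s with
  | zero => simp
  | add p q hp hq => simp only [map_add, hp, hq]
  | tmul n a =>
    simp only [LinearMap.rTensor_tmul, LinearMap.comp_apply, comodHom_apply' hg]
    generalize Comod.coact (k := k) (A := A) (f n) = t
    induction t with
    | zero => simp
    | add p q hp hq => simp only [map_add, TensorProduct.add_tmul, hp, hq]
    | tmul x c => simp

lemma integral_key {l : A →ₗ[k] k}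
    (hl : ∀ y, TensorProduct.lid k A (l.rTensor A (CoalgebraStruct.comul (R := k) y)) = algebraMap k A (l y))
    (c a : A) :
    TensorProduct.rid k A ((l ∘ₗ LinearMap.mulRight k a ∘ₗ HopfAlgebraStruct.antipode (R := k)).lTensor A
        (CoalgebraStruct.comul (R := k) c)) =
      TensorProduct.lid k A ((l ∘ₗ LinearMap.mulLeft k (HopfAlgebraStruct.antipode (R := k) c)).rTensor A
        (CoalgebraStruct.comul (R := k) a)) := by
  let P : A ⊗[k] A →ₗ[k] A := (TensorProduct.lid k A).toLinearMap ∘ₗ l.rTensor A
  have hP : ∀ (u : A) (t : A ⊗[k] A), P (((1 : A) ⊗ₜ[k] u) * t) = u * P t := by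
    intro u t
    induction t with
    | zero => simp
    | add p q hp hq => simp only [mul_add, map_add, hp, hq]
    | tmul p q => simp [P, Algebra.TensorProduct.tmul_mul_tmul]
  have e : TensorProduct.lid k A ((l ∘ₗ LinearMap.mulLeft k (HopfAlgebraStruct.antipode (R := k) c)).rTensor A
      (CoalgebraStruct.comul (R := k) a)) =
      P ((HopfAlgebraStruct.antipode (R := k) c ⊗ₜ[k] (1 : A)) * CoalgebraStruct.comul (R := k) a) := by
    generalize CoalgebraStruct.comul (R := k) a = t
    induction t with
    | zero => simp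
    | add p q hp hq => simp only [mul_add, map_add, hp, hq]
    | tmul p q => simp [P, Algebra.TensorProduct.tmul_mul_tmul]
  rw [e, ← comul_antipode_key]
  generalize CoalgebraStruct.comul (R := k) c = z
  induction z with
  | zero => simp
  | add p q hp hq => simp only [map_add, add_mul, hp, hq]
  | tmul u w =>
    simp only [TensorProduct.map_tmul, LinearMap.mul'_apply, AlgHom.toLinearMap_apply,
      Algebra.TensorProduct.includeRight_apply, LinearMap.comp_apply]
    rw [mul_assoc, ← Bialgebra.comul_mul, hP]
    show _ = u * TensorProduct.lid k A (l.rTensor A _)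
    rw [hl]
    simp [Algebra.smul_def, mul_comm]

lemma isComodHom_avg {l : A →ₗ[k] k}
    (hl : ∀ y, TensorProduct.lid k A (l.rTensor A (CoalgebraStruct.comul (R := k) y)) = algebraMap k A (l y))
    (f : M →ₗ[k] V) : Hoch.IsComodHom A (avg l f) := by
  refine LinearMap.ext fun m => ?_
  have h1 := LinearMap.congr_fun (Comod.coassoc (k := k) (A := A) (V := M)) m
  simp only [LinearMap.comp_apply, LinearEquiv.coe_coe] at h1
  rw [← LinearEquiv.eq_symm_apply] at h1
  simp only [avg, LinearMap.comp_apply, LinearMap.rTensor_comp_apply]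
  rw [h1]
  generalize Comod.coact (k := k) (A := A) m = s
  clear h1
  induction s with
  | zero => simp
  | add p q hp hq => simp only [map_add, hp, hq]
  | tmul n a =>
    simp only [LinearMap.rTensor_tmul, LinearMap.lTensor_tmul]
    have h2 := LinearMap.congr_fun (Comod.coassoc (k := k) (A := A) (V := V)) (f n)
    simp only [LinearMap.comp_apply, LinearEquiv.coe_coe] at h2
    rw [← LinearEquiv.eq_symm_apply] at h2
    let Ψ : ((V ⊗[k] A) ⊗[k] A) ⊗[k] A →ₗ[k] V ⊗[k] A := twist (V := V ⊗[k] A) l
    have h3 : ∀ t : V ⊗[k] A, Comod.coact (k := k) (A := A) (twist l (t ⊗ₜ[k] a)) =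
        Ψ ((Comod.coact (k := k) (A := A)).rTensor A t ⊗ₜ[k] a) := by
      intro t
      induction t with
      | zero => simp
      | add p q hp hq => simp only [map_add, TensorProduct.add_tmul, hp, hq]
      | tmul x c => simp [Ψ]
    rw [h3, h2]
    generalize hd : Comod.coact (k := k) (A := A) (f n) = d
    clear h2 h3
    have e : ∀ z : A ⊗[k] A,
        (twist (V := V) l).rTensor A (((Comod.coact (k := k) (A := A) ∘ₗ f).rTensor A).rTensor A
            ((TensorProduct.assoc k M A A).symm (n ⊗ₜ[k] z))) =
        (twist (V := V) l).rTensor A ((TensorProduct.assoc k (V ⊗[k] A) A A).symm (d ⊗ₜ[k] z)) := by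
      intro z
      induction z with
      | zero => simp
      | add p q hp hq => simp only [TensorProduct.tmul_add, map_add, hp, hq]
      | tmul p q => simp [hd]
    rw [e]
    clear e hd
    induction d with
    | zero => simp
    | add p q hp hq => simp only [map_add, TensorProduct.add_tmul, hp, hq]
    | tmul x c =>
      have e1 : ∀ z : A ⊗[k] A, Ψ ((TensorProduct.assoc k V A A).symm (x ⊗ₜ[k] z) ⊗ₜ[k] a) =
          x ⊗ₜ[k] TensorProduct.rid k A
            ((l ∘ₗ LinearMap.mulRight k a ∘ₗ HopfAlgebraStruct.antipode (R := k)).lTensor A z) := by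
        intro z
        induction z with
        | zero => simp
        | add p q hp hq => simp only [TensorProduct.tmul_add, TensorProduct.add_tmul, map_add, hp, hq]
        | tmul p q => simp [Ψ, TensorProduct.smul_tmul']
      have e2 : ∀ z : A ⊗[k] A,
          (twist (V := V) l).rTensor A ((TensorProduct.assoc k (V ⊗[k] A) A A).symm ((x ⊗ₜ[k] c) ⊗ₜ[k] z)) =
          x ⊗ₜ[k] TensorProduct.lid k A
            ((l ∘ₗ LinearMap.mulLeft k (HopfAlgebraStruct.antipode (R := k) c)).rTensor A z) := by
        intro z
        induction z with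
        | zero => simp
        | add p q hp hq => simp only [TensorProduct.tmul_add, map_add, hp, hq]
        | tmul p q => simp [TensorProduct.smul_tmul]
      rw [LinearMap.lTensor_tmul, e1, e2, integral_key hl]

variable [Module R M] [IsScalarTower k R M] [TameAct.IsHopfMod k A R M]
variable [Module R V] [IsScalarTower k R V] [TameAct.IsHopfMod k A R V]

lemma avg_smul (l : A →ₗ[k] k) (f : M →ₗ[k] V) (hf : ∀ (r : R) m, f (r • m) = r • f m) (r : R) (m : M) :
    avg l f (r • m) = r • avg l f m := by
  simp only [avg, LinearMap.comp_apply]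
  rw [TameAct.IsHopfMod.coact_smul (k := k) (A := A) r m]
  generalize Comod.coact (k := k) (A := A) m = s
  induction s with
  | zero => simp
  | add p q hp hq => simp only [map_add, smul_add, hp, hq]
  | tmul n a =>
    obtain ⟨t, ht⟩ : ∃ t, t = Comod.coact (k := k) (A := A) (f n) := ⟨_, rfl⟩
    have hL : ∀ (q : R) (e : A), (Comod.coact (k := k) (A := A) ∘ₗ f).rTensor A
        (TameAct.hmSMul k A R M (q ⊗ₜ[k] e) (n ⊗ₜ[k] a)) =
        TameAct.hmSMul k A R V (Comod.coact (k := k) (A := A) q) t ⊗ₜ[k] (e * a) := by
      intro q e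
      simp [hf, TameAct.IsHopfMod.coact_smul, ht]
    rw [LinearMap.rTensor_tmul, LinearMap.comp_apply, ← ht]
    let Θ : V ⊗[k] A → R ⊗[k] A →ₗ[k] V := fun t =>
      twist l ∘ₗ (TensorProduct.map
        ((TameAct.hmSMul k A R V).flip t ∘ₗ Comod.coact (k := k) (A := A)) (LinearMap.mulRight k a))
    have hΘ : ∀ d : R ⊗[k] A, twist l ((Comod.coact (k := k) (A := A) ∘ₗ f).rTensor A
        (TameAct.hmSMul k A R M d (n ⊗ₜ[k] a))) = Θ t d := by
      intro d
      induction d with
      | zero => simp
      | add p q hp hq => simp only [map_add, LinearMap.add_apply, hp, hq]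
      | tmul q e => rw [hL]; simp [Θ]
    rw [hΘ]
    clear hΘ hL ht
    induction t with
    | zero => simp [Θ]
    | add p q hp hq =>
      simp only [Θ, LinearMap.comp_apply, TensorProduct.add_tmul, map_add, smul_add] at hp hq ⊢
      rw [← hp, ← hq]
      generalize Comod.coact (k := k) (A := A) r = d
      induction d with
      | zero => simp
      | add p q hp hq => simp only [map_add, hp, hq]; abel
      | tmul q e => simp [TensorProduct.add_tmul]
    | tmul x c =>
      let Ω : R ⊗[k] A →ₗ[k] V := (TensorProduct.rid k V).toLinearMap ∘ₗ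
        TensorProduct.map ((Algebra.lsmul k k V : R →ₐ[k] Module.End k V).toLinearMap.flip x)
          (l ∘ₗ LinearMap.mulRight k (HopfAlgebraStruct.antipode (R := k) c * a))
      have hΩ : ∀ (q : R) (h : A),
          Ω (q ⊗ₜ[k] h) = l (h * (HopfAlgebraStruct.antipode (R := k) c * a)) • q • x := fun q h => by
        simp [Ω, mul_assoc]
      have h := congrArg Ω (coact_antipode_left (k := k) (A := A) r)
      rw [hΩ, one_mul] at h
      rw [twist_tmul, smul_comm, ← h]
      simp only [Θ, LinearMap.comp_apply]
      generalize Comod.coact (k := k) (A := A) r = d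
      induction d with
      | zero => simp
      | add p q hp hq => simp only [map_add, hp, hq]
      | tmul q e =>
        simp only [TensorProduct.map_tmul, LinearMap.rTensor_tmul, LinearMap.comp_apply, LinearMap.flip_apply,
          LinearMap.mulRight_apply]
        generalize Comod.coact (k := k) (A := A) q = d'
        induction d' with
        | zero => simp
        | add p q hp hq => simp only [map_add, LinearMap.add_apply, TensorProduct.add_tmul, hp, hq]
        | tmul p g =>
          simp only [TensorProduct.assoc_tmul, LinearMap.lTensor_tmul, LinearMap.comp_apply, LinearMap.rTensor_tmul,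
            LinearMap.mul'_apply, hΩ, TameAct.hmSMul_tmul, twist_tmul, HopfAlgebra.antipode_mul_antidistrib]
          congr 2
          ring

end Groth.Agent.HopfMod
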