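import Groth.Prelude.Def_W4c1tameactTame
import Groth.Prelude.Def_Hoch
import Groth.Prelude.Def_GLin
import Mathlib.RingTheory.HopfAlgebra.Convolution
import Mathlib.RingTheory.Coalgebra.Convolution
import Mathlib.LinearAlgebra.Basis.VectorSpace

/-!
# Relative Hopf modules: invariant projections and the fundamental theorem
-/

open TensorProduct HopfRep WithConv

universe u v w w'

namespace Groth.Agent.HopfMod

set_option linter.unusedSectionVars false

variable {k : Type u} [CommRing k] {A : Type v} [CommRing A] [HopfAlgebra k A]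
variable {B : Type w} [CommRing B] [Algebra k B]
variable {M : Type w'} [AddCommGroup M] [Module k M] [Comod k A M]

/-- The antipode undoes the coaction, antipode on the last factor. -/
lemma coact_antipode_right (m : M) :
    (LinearMap.mul' k A ∘ₗ (HopfAlgebraStruct.antipode (R := k) (A := A)).lTensor A).lTensor M
      (TensorProduct.assoc k M A A ((Comod.coact (k := k) (A := A)).rTensor A
        (Comod.coact (k := k) (A := A) m))) = m ⊗ₜ[k] (1 : A) := by
  have h1 := LinearMap.congr_fun (Comod.coassoc (k := k) (A := A) (V := M)) m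
  have h2 := LinearMap.congr_fun (Comod.counit_comp (k := k) (A := A) (V := M)) m
  simp only [LinearMap.comp_apply, LinearEquiv.coe_coe] at h1 h2
  rw [h1, ← LinearMap.lTensor_comp_apply]
  have e : (LinearMap.mul' k A ∘ₗ (HopfAlgebraStruct.antipode (R := k) (A := A)).lTensor A) ∘ₗ
      CoalgebraStruct.comul = Algebra.linearMap k A ∘ₗ CoalgebraStruct.counit := by
    ext a
    exact HopfAlgebra.mul_antipode_lTensor_comul_apply a
  rw [e, LinearMap.lTensor_comp_apply, h2]
  simp

/-- The antipode undoes the coaction, antipode on the middle factor. -/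
lemma coact_antipode_left (m : M) :
    (LinearMap.mul' k A ∘ₗ (HopfAlgebraStruct.antipode (R := k) (A := A)).rTensor A).lTensor M
      (TensorProduct.assoc k M A A ((Comod.coact (k := k) (A := A)).rTensor A
        (Comod.coact (k := k) (A := A) m))) = m ⊗ₜ[k] (1 : A) := by
  have h1 := LinearMap.congr_fun (Comod.coassoc (k := k) (A := A) (V := M)) m
  have h2 := LinearMap.congr_fun (Comod.counit_comp (k := k) (A := A) (V := M)) m
  simp only [LinearMap.comp_apply, LinearEquiv.coe_coe] at h1 h2
  rw [h1, ← LinearMap.lTensor_comp_apply]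
  have e : (LinearMap.mul' k A ∘ₗ (HopfAlgebraStruct.antipode (R := k) (A := A)).rTensor A) ∘ₗ
      CoalgebraStruct.comul = Algebra.linearMap k A ∘ₗ CoalgebraStruct.counit := by
    ext a
    exact HopfAlgebra.mul_antipode_rTensor_comul_apply a
  rw [e, LinearMap.lTensor_comp_apply, h2]
  simp

/-- `(1 ⊗ c₁) · Δ(S c₂) = S c ⊗ 1`. -/
lemma comul_antipode_key (c : A) :
    LinearMap.mul' k (A ⊗[k] A) (TensorProduct.map
      (Algebra.TensorProduct.includeRight : A →ₐ[k] A ⊗[k] A).toLinearMap
      (CoalgebraStruct.comul ∘ₗ HopfAlgebraStruct.antipode (R := k) (A := A))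
      (CoalgebraStruct.comul (R := k) c)) = HopfAlgebraStruct.antipode (R := k) c ⊗ₜ[k] (1 : A) := by
  let i1 : WithConv (A →ₐ[k] A ⊗[k] A) := toConv Algebra.TensorProduct.includeLeft
  let i2 : WithConv (A →ₐ[k] A ⊗[k] A) := toConv Algebra.TensorProduct.includeRight
  have hcomul : toConv (Bialgebra.comulAlgHom k A) = i1 * i2 := by
    apply WithConv.ofConv_injective
    ext a
    rw [AlgHom.convMul_apply]
    generalize hz : CoalgebraStruct.comul (R := k) a = z
    rw [show (Bialgebra.comulAlgHom k A) a = z from hz]
    clear hz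
    induction z with
    | zero => simp
    | tmul x y => simp [i1, i2]
    | add p q hp hq => simp only [map_add]; rw [← hp, ← hq]
  have key : i2 * (toConv (Bialgebra.comulAlgHom k A))⁻¹ = i1⁻¹ := by
    rw [hcomul]
    exact (show ∀ {G : Type _} [Group G] (a b : G), b * (a * b)⁻¹ = a⁻¹ from
      fun a b => by rw [mul_inv_rev, mul_inv_cancel_left]) i1 i2
  have h := AlgHom.congr_fun (congrArg WithConv.ofConv key) c
  rw [AlgHom.convMul_apply] at h
  refine Eq.trans ?_ (h.trans ?_)
  · generalize CoalgebraStruct.comul (R := k) c = z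
    induction z with
    | zero => simp
    | tmul x y => simp [i2]; rfl
    | add p q hp hq => simp only [map_add, hp, hq]
  · rfl

variable [Module B M] [IsScalarTower k B M]

lemma reynolds_eq (α : A →ₗ[k] B) (t : M ⊗[k] A) :
    TensorProduct.lift ((Algebra.lsmul k k M : B →ₐ[k] Module.End k M).toLinearMap ∘ₗ α ∘ₗ
      (HopfAlgebraStruct.antipode (R := k) (A := A))).flip t =
    TensorProduct.lift ((Algebra.lsmul k k M : B →ₐ[k] Module.End k M).toLinearMap ∘ₗ α).flip
      ((HopfAlgebraStruct.antipode (R := k) (A := A)).lTensor M t) := by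
  induction t with
  | zero => simp
  | tmul x y => simp
  | add p q hp hq => simp only [map_add, hp, hq]

lemma reynolds_of_fixed {α : A →ₗ[k] B} (hα1 : ∀ m : M, α 1 • m = m) {m : M}
    (hm : m ∈ fixedPts k A M) : TameAct.reynolds k A B M α m = m := by
  rw [TameAct.reynolds_apply_of_coact_eq k A B M α m m 1 hm, HopfAlgebra.antipode_one, hα1]

variable [Comod k A B] [TameAct.IsHopfMod k A B M]

lemma coact_smul_fixed (b : B) {m : M} (hm : m ∈ fixedPts k A M) :
    Comod.coact (k := k) (A := A) (b • m) =
      ((Algebra.lsmul k k M : B →ₐ[k] Module.End k M).toLinearMap.flip m).rTensor A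
        (Comod.coact (k := k) (A := A) b) := by
  rw [TameAct.IsHopfMod.coact_smul (k := k) (A := A) b m,
    show Comod.coact (k := k) (A := A) m = m ⊗ₜ[k] (1 : A) from hm]
  generalize Comod.coact (k := k) (A := A) b = z
  induction z with
  | zero => simp
  | tmul x y => simp
  | add p q hp hq => simp only [map_add, LinearMap.add_apply, hp, hq]

lemma isComodHom_smul_fixed {m : M} (hm : m ∈ fixedPts k A M) :
    Hoch.IsComodHom A ((Algebra.lsmul k k M : B →ₐ[k] Module.End k M).toLinearMap.flip m) :=
  LinearMap.ext fun b => coact_smul_fixed b hm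

/-- The generalized Reynolds map lands in the fixed vectors. -/
theorem reynolds_mem {α : A →ₗ[k] B}
    (hα : ∀ (a : A) (t : M ⊗[k] A), TameAct.hmSMul k A B M (Comod.coact (k := k) (A := A) (α a)) t =
      TameAct.hmSMul k A B M (α.rTensor A (CoalgebraStruct.comul (R := k) a)) t) (m : M) :
    TameAct.reynolds k A B M α m ∈ fixedPts k A M := by
  let S := HopfAlgebraStruct.antipode (R := k) (A := A)
  let Φ : (M ⊗[k] A) ⊗[k] A →ₗ[k] M ⊗[k] A :=
    TensorProduct.lift (TameAct.hmSMul k A B M ∘ₗ α.rTensor A ∘ₗ CoalgebraStruct.comul ∘ₗ S).flip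
  have h1 : Comod.coact (k := k) (A := A) (TameAct.reynolds k A B M α m) =
      Φ ((Comod.coact (k := k) (A := A)).rTensor A (Comod.coact (k := k) (A := A) m)) := by
    rw [TameAct.reynolds, LinearMap.comp_apply]
    generalize Comod.coact (k := k) (A := A) m = t
    induction t with
    | zero => simp
    | tmul n a =>
      simp only [TensorProduct.lift.tmul, LinearMap.flip_apply, LinearMap.comp_apply, AlgHom.toLinearMap_apply,
        Algebra.lsmul_apply, LinearMap.rTensor_tmul, Φ]
      exact (TameAct.IsHopfMod.coact_smul (α (S a)) n).trans (hα _ _)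
    | add p q hp hq => simp only [map_add, hp, hq]
  have h2 := LinearMap.congr_fun (Comod.coassoc (k := k) (A := A) (V := M)) m
  simp only [LinearMap.comp_apply, LinearEquiv.coe_coe] at h2
  rw [← LinearEquiv.eq_symm_apply] at h2
  rw [h2] at h1
  show Comod.coact (k := k) (A := A) _ = _ ⊗ₜ[k] (1 : A)
  rw [h1, TameAct.reynolds, LinearMap.comp_apply]
  generalize Comod.coact (k := k) (A := A) m = t
  induction t with
  | zero => simp
  | add p q hp hq => simp only [map_add, hp, hq, TensorProduct.add_tmul]
  | tmul n c =>
    let L : A ⊗[k] A →ₗ[k] M ⊗[k] A := ((TameAct.hmSMul k A B M).flip (n ⊗ₜ[k] (1 : A))) ∘ₗ α.rTensor A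
    have hL : ∀ z, Φ ((TensorProduct.assoc k M A A).symm (n ⊗ₜ[k] z)) =
        L (LinearMap.mul' k (A ⊗[k] A) (TensorProduct.map
          (Algebra.TensorProduct.includeRight : A →ₐ[k] A ⊗[k] A).toLinearMap
          (CoalgebraStruct.comul ∘ₗ S) z)) := by
      intro z
      induction z with
      | zero => simp
      | add p q hp hq => simp only [TensorProduct.tmul_add, map_add, hp, hq]
      | tmul x y =>
        simp only [TensorProduct.assoc_symm_tmul, Φ, TensorProduct.lift.tmul, LinearMap.flip_apply,
          LinearMap.comp_apply, TensorProduct.map_tmul, LinearMap.mul'_apply, L,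
          AlgHom.toLinearMap_apply, Algebra.TensorProduct.includeRight_apply]
        generalize CoalgebraStruct.comul (R := k) (S y) = d
        induction d with
        | zero => simp
        | add p q hp hq => simp only [mul_add, map_add, LinearMap.add_apply, hp, hq]
        | tmul a b => simp [Algebra.TensorProduct.tmul_mul_tmul, mul_comm]
    rw [LinearMap.lTensor_tmul, hL, comul_antipode_key]
    simp [L]

section Structure

variable (φ : B →ₐ[k] A) {α : A →ₗ[k] B}

variable (hαφ : ∀ a, φ (α a) = a) (hker : ∀ (b : B) (m : M), φ b = 0 → b • m = 0)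

include hαφ hker

lemma smul_factor (b : B) (m : M) : b • m = α (φ b) • m := by
  rw [← sub_eq_zero, ← sub_smul]
  exact hker _ _ (by rw [map_sub, hαφ, sub_self])

lemma alpha_mul_smul (a a' : A) (m : M) : α (a * a') • m = α a • α a' • m := by
  rw [← mul_smul, smul_factor φ hαφ hker (α a * α a') m, map_mul φ, hαφ, hαφ]

lemma alpha_one_smul (m : M) : α 1 • m = m := by
  conv_rhs => rw [← one_smul B m, smul_factor φ hαφ hker (1 : B) m, map_one]

variable (hφ : Hoch.IsComodHom A φ.toLinearMap)
include hφ

lemma hmSMul_coact_alpha (a : A) (t : M ⊗[k] A) :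
    TameAct.hmSMul k A B M (Comod.coact (k := k) (A := A) (α a)) t =
      TameAct.hmSMul k A B M (α.rTensor A (CoalgebraStruct.comul (R := k) a)) t := by
  have h := LinearMap.congr_fun hφ (α a)
  simp only [LinearMap.comp_apply, AlgHom.toLinearMap_apply, hαφ] at h
  change CoalgebraStruct.comul (R := k) a = _ at h
  rw [h]
  generalize Comod.coact (k := k) (A := A) (α a) = z
  induction z with
  | zero => simp
  | add p q hp hq => simp only [map_add, LinearMap.add_apply, hp, hq]
  | tmul b a' =>
    induction t with
    | zero => simp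
    | add p q hp hq => simp only [map_add, hp, hq]
    | tmul m a'' => simp [← smul_factor φ hαφ hker b m]

lemma reynolds_mem_fixed (m : M) : TameAct.reynolds k A B M α m ∈ fixedPts k A M :=
  reynolds_mem (hmSMul_coact_alpha φ hαφ hker hφ) m

/-- Every vector is a combination of fixed vectors. -/
theorem reconstruct (m : M) :
    TensorProduct.lift ((Algebra.lsmul k k M : B →ₐ[k] Module.End k M).toLinearMap ∘ₗ α).flip
      ((TameAct.reynolds k A B M α).rTensor A (Comod.coact (k := k) (A := A) m)) = m := by
  have h := congrArg (TensorProduct.lift ((Algebra.lsmul k k M : B →ₐ[k] Module.End k M).toLinearMap ∘ₗ α).flip)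
    (coact_antipode_left (k := k) (A := A) m)
  simp only [TensorProduct.lift.tmul, LinearMap.flip_apply, LinearMap.comp_apply, AlgHom.toLinearMap_apply,
    Algebra.lsmul_apply, alpha_one_smul φ hαφ hker] at h
  refine Eq.trans ?_ h
  rw [show TameAct.reynolds k A B M α = TensorProduct.lift
      ((Algebra.lsmul k k M : B →ₐ[k] Module.End k M).toLinearMap ∘ₗ α ∘ₗ
        (HopfAlgebraStruct.antipode (R := k) (A := A))).flip ∘ₗ Comod.coact (k := k) (A := A) from rfl,
    LinearMap.rTensor_comp_apply]
  generalize (Comod.coact (k := k) (A := A)).rTensor A (Comod.coact (k := k) (A := A) m) = t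
  induction t with
  | zero => simp
  | add p q hp hq => simp only [map_add, hp, hq]
  | tmul s a =>
    induction s with
    | zero => simp
    | add p q hp hq => simp only [TensorProduct.add_tmul, map_add, hp, hq]
    | tmul n a' =>
      simp [← alpha_mul_smul φ hαφ hker, mul_comm]

theorem span_fixed : Submodule.span B (fixedPts k A M : Set M) = ⊤ := by
  refine eq_top_iff.2 fun m _ => ?_
  rw [← reconstruct φ hαφ hker hφ m]
  generalize Comod.coact (k := k) (A := A) m = t
  induction t with
  | zero => simp
  | add p q hp hq => simp only [map_add]; exact add_mem hp hq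
  | tmul n a =>
    simp only [LinearMap.rTensor_tmul, TensorProduct.lift.tmul, LinearMap.flip_apply, LinearMap.comp_apply,
      AlgHom.toLinearMap_apply, Algebra.lsmul_apply]
    exact Submodule.smul_mem _ _ (Submodule.subset_span (reynolds_mem_fixed φ hαφ hker hφ n))

lemma reynolds_smul_fixed (b : B) {f : M} (hf : f ∈ fixedPts k A M) :
    TameAct.reynolds k A B M α (b • f) = CoalgebraStruct.counit (R := k) (φ b) • f := by
  have h := HopfAlgebra.mul_antipode_lTensor_comul_apply (R := k) (φ b)
  have hc := LinearMap.congr_fun hφ b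
  simp only [LinearMap.comp_apply, AlgHom.toLinearMap_apply] at hc
  change CoalgebraStruct.comul (R := k) (φ b) = _ at hc
  rw [hc] at h
  rw [TameAct.reynolds, LinearMap.comp_apply, coact_smul_fixed b hf]
  have e : α (algebraMap k A (CoalgebraStruct.counit (R := k) (φ b))) • f =
      CoalgebraStruct.counit (R := k) (φ b) • f := by
    rw [Algebra.algebraMap_eq_smul_one, map_smul, smul_assoc, alpha_one_smul φ hαφ hker]
  rw [← e, ← h]
  generalize Comod.coact (k := k) (A := A) b = z
  induction z with
  | zero => simp
  | add p q hp hq => simp only [map_add, add_smul, hp, hq]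
  | tmul b' a =>
    simp only [LinearMap.rTensor_tmul, TensorProduct.lift.tmul, LinearMap.flip_apply, LinearMap.comp_apply,
      AlgHom.toLinearMap_apply, Algebra.lsmul_apply, LinearMap.lTensor_tmul, LinearMap.mul'_apply]
    rw [mul_comm, alpha_mul_smul φ hαφ hker, ← smul_factor φ hαφ hker b' f]

lemma rTensor_reynolds_coact (b : B) {f : M} (hf : f ∈ fixedPts k A M) :
    (TameAct.reynolds k A B M α).rTensor A (Comod.coact (k := k) (A := A) (b • f)) = f ⊗ₜ[k] φ b := by
  have h := Coalgebra.rTensor_counit_comul (R := k) (φ b)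
  have hc := LinearMap.congr_fun hφ b
  simp only [LinearMap.comp_apply, AlgHom.toLinearMap_apply] at hc
  change CoalgebraStruct.comul (R := k) (φ b) = _ at hc
  rw [hc] at h
  have h2 := congrArg ((LinearMap.toSpanSingleton k M f).rTensor A) h
  simp only [LinearMap.rTensor_tmul, LinearMap.toSpanSingleton_apply, one_smul] at h2
  rw [← h2, coact_smul_fixed b hf]
  generalize Comod.coact (k := k) (A := A) b = z
  induction z with
  | zero => simp
  | add p q hp hq => simp only [map_add, hp, hq]
  | tmul b' a => simp [reynolds_smul_fixed φ hαφ hker hφ b' hf]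

end Structure

section Field

variable {k : Type u} [Field k] {A : Type v} [CommRing A] [HopfAlgebra k A]
variable {B : Type w} [CommRing B] [Algebra k B] [Comod k A B]
variable {M : Type w'} [AddCommGroup M] [Module k M] [Module B M] [IsScalarTower k B M] [Comod k A M]
  [TameAct.IsHopfMod k A B M]

/-- The fundamental theorem: linearly independent fixed vectors are independent over the algebra. -/
theorem eq_zero_of_sum_smul_eq_zero (φ : B →ₐ[k] A) {α : A →ₗ[k] B} (hαφ : ∀ a, φ (α a) = a)
    (hker : ∀ (b : B) (m : M), φ b = 0 → b • m = 0) (hφ : Hoch.IsComodHom A φ.toLinearMap)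
    {ι : Type*} {v : ι → M} (hli : LinearIndependent k v) (hv : ∀ i, v i ∈ fixedPts k A M)
    (s : Finset ι) (b : ι → B) (h : ∑ i ∈ s, b i • v i = 0) : ∀ i ∈ s, φ (b i) = 0 := by
  classical
  intro i hi
  obtain ⟨g, hg⟩ := LinearMap.exists_extend ((Module.Basis.span hli).coord i)
  have hgv : ∀ j, g (v j) = if j = i then 1 else 0 := fun j => by
    have := LinearMap.congr_fun hg (Module.Basis.span hli j)
    rw [LinearMap.comp_apply, Submodule.subtype_apply, Module.Basis.coe_span_apply, Module.Basis.coord_apply,
      Module.Basis.repr_self, Finsupp.single_apply] at this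
    exact this
  have h1 := congrArg (fun m => TensorProduct.lid k A (g.rTensor A
    ((TameAct.reynolds k A B M α).rTensor A (Comod.coact (k := k) (A := A) m)))) h
  simp only [map_sum, rTensor_reynolds_coact φ hαφ hker hφ _ (hv _), LinearMap.rTensor_tmul,
    TensorProduct.lid_tmul, hgv, ite_smul, one_smul, zero_smul, Finset.sum_ite_eq', hi, if_true, map_zero] at h1
  exact h1

end Field

end Groth.Agent.HopfMod
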