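import Groth.Agent.Lib.HopfMod.Basic

/-!
# Consequences of a total integral
-/

open TensorProduct HopfRep

universe u v w

namespace Groth.Agent.HopfMod

variable {k : Type u} [CommRing k] {A : Type v} [CommRing A] [HopfAlgebra k A]
variable {B : Type w} [CommRing B] [Algebra k B] [Comod k A B] [GLin.IsCoactAlg k A B]


theorem isHopfMod_self : TameAct.IsHopfMod k A B B := by
  refine ⟨fun b m => ?_⟩
  rw [smul_eq_mul, GLin.IsCoactAlg.coact_mul (k := k) b m]
  generalize Comod.coact (k := k) (A := A) b = z
  generalize Comod.coact (k := k) (A := A) m = y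
  induction z with
  | zero => simp
  | add p q hp hq => simp only [add_mul, map_add, LinearMap.add_apply, hp, hq]
  | tmul p q =>
    induction y with
    | zero => simp
    | add r s hr hs => simp only [mul_add, map_add, hr, hs]
    | tmul r s => simp [Algebra.TensorProduct.tmul_mul_tmul]

theorem exists_projection {α : A →ₗ[k] B} (hα : Hoch.IsComodHom A α) (hα1 : α 1 = 1) :
    ∃ E : B →ₗ[k] B, (∀ b, E b ∈ GLin.invariants k A B) ∧ (∀ c ∈ GLin.invariants k A B, E c = c) ∧
      (∀ c ∈ GLin.invariants k A B, ∀ b, E (c * b) = c * E b) ∧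
      ∀ I : Ideal B, IsSubcomod (k := k) (A := A) (I.restrictScalars k) → ∀ b ∈ I, E b ∈ I := by
  haveI := isHopfMod_self (k := k) (A := A) (B := B)
  refine ⟨TameAct.reynolds k A B B α, fun b => ?_, fun c hc => reynolds_of_fixed (fun m => by rw [hα1, one_smul]) hc,
    fun c hc b => ?_, fun I hI b hb => ?_⟩
  · refine reynolds_mem (fun a t => ?_) b
    rw [show Comod.coact (k := k) (A := A) (α a) = _ from LinearMap.congr_fun hα a]
    rfl
  · simp only [TameAct.reynolds, LinearMap.comp_apply]
    rw [GLin.IsCoactAlg.coact_mul (k := k), show Comod.coact (k := k) (A := A) c = c ⊗ₜ[k] (1 : A) from hc]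
    generalize Comod.coact (k := k) (A := A) b = z
    induction z with
    | zero => simp
    | add p q hp hq => simp only [mul_add, map_add, hp, hq]
    | tmul p q => simp [Algebra.TensorProduct.tmul_mul_tmul, mul_left_comm]
  · obtain ⟨w, hw⟩ := hI b hb
    simp only [TameAct.reynolds, LinearMap.comp_apply]
    rw [← hw]
    clear hw
    induction w with
    | zero => simp
    | add p q hp hq => simp only [map_add]; exact add_mem hp hq
    | tmul p q => simpa using Ideal.mul_mem_left I _ p.2

theorem exists_leftInverse {α : A →ₗ[k] B} (hα : Hoch.IsComodHom A α) (hα1 : α 1 = 1) :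
    ∃ lam : Hoch.Ind k A B →ₗ[k] B, Hoch.IsComodHom A lam ∧ lam ∘ₗ Hoch.toInd k A B = LinearMap.id := by
  let S : A →ₗ[k] A := HopfAlgebraStruct.antipode (R := k)
  let θ : (B ⊗[k] A) ⊗[k] A →ₗ[k] B :=
    LinearMap.mul' k B ∘ₗ α.lTensor B ∘ₗ (LinearMap.mul' k A).lTensor B ∘ₗ
      (S.rTensor A).lTensor B ∘ₗ (TensorProduct.assoc k B A A).toLinearMap
  let lam₀ : B ⊗[k] A →ₗ[k] B := θ ∘ₗ (Comod.coact (k := k) (A := A)).rTensor A
  refine ⟨lam₀ ∘ₗ (Hoch.Ind.equiv k A B).symm.toLinearMap, ?_, ?_⟩
  · refine LinearMap.ext fun x => ?_
    obtain ⟨y, rfl⟩ := (Hoch.Ind.equiv k A B).surjective x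
    induction y with
    | zero => simp
    | add p q hp hq => simp only [map_add, hp, hq]
    | tmul b a =>
      have h1 : ∀ u : A ⊗[k] A, ((lam₀ ∘ₗ (Hoch.Ind.equiv k A B).symm.toLinearMap).rTensor A)
          ((Hoch.Ind.equiv k A B).toLinearMap.rTensor A ((TensorProduct.assoc k B A A).symm (b ⊗ₜ[k] u))) =
          (θ.rTensor A) ((TensorProduct.assoc k (B ⊗[k] A) A A).symm (Comod.coact (k := k) (A := A) b ⊗ₜ[k] u)) := by
        intro u
        induction u with
        | zero => simp
        | add p q hp hq => simp only [TensorProduct.tmul_add, map_add, hp, hq]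
        | tmul p q => simp [lam₀]
      have h2 : Comod.coact (k := k) (A := A) (Hoch.Ind.equiv k A B (b ⊗ₜ[k] a)) =
          (Hoch.Ind.equiv k A B).toLinearMap.rTensor A
            ((TensorProduct.assoc k B A A).symm (b ⊗ₜ[k] CoalgebraStruct.comul (R := k) a)) := by
        generalize hz : (TensorProduct.assoc k B A A).symm (b ⊗ₜ[k] CoalgebraStruct.comul (R := k) a) = z
        refine hz.trans ?_
        clear hz
        induction z with
        | zero => rw [map_zero]; rfl
        | add p q hp hq => rw [map_add, ← hp, ← hq]; rfl
        | tmul p q => rfl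
      simp only [LinearMap.comp_apply]
      rw [h2, h1]
      simp only [LinearEquiv.coe_coe, LinearEquiv.symm_apply_apply, lam₀, LinearMap.comp_apply, LinearMap.rTensor_tmul]
      let Ψ : B ⊗[k] (A ⊗[k] A) →ₗ[k] B ⊗[k] A :=
        LinearMap.mul' k (B ⊗[k] A) ∘ₗ TensorProduct.map (Algebra.TensorProduct.includeLeft : B →ₐ[k] B ⊗[k] A).toLinearMap
          (α.rTensor A ∘ₗ (LinearMap.mul k (A ⊗[k] A)).flip (CoalgebraStruct.comul (R := k) a) ∘ₗ
            LinearMap.mul' k (A ⊗[k] A) ∘ₗ TensorProduct.map
              (Algebra.TensorProduct.includeRight : A →ₐ[k] A ⊗[k] A).toLinearMap (CoalgebraStruct.comul ∘ₗ S))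
      have h3 : ∀ z : B ⊗[k] A, Comod.coact (k := k) (A := A) (θ (z ⊗ₜ[k] a)) =
          Ψ (TensorProduct.assoc k B A A ((Comod.coact (k := k) (A := A)).rTensor A z)) := by
        intro z
        induction z with
        | zero => simp
        | add p q hp hq => simp only [TensorProduct.add_tmul, map_add, hp, hq]
        | tmul p q =>
          simp only [θ, LinearMap.comp_apply, LinearEquiv.coe_coe, TensorProduct.assoc_tmul, LinearMap.lTensor_tmul,
            LinearMap.rTensor_tmul, LinearMap.mul'_apply]
          rw [GLin.IsCoactAlg.coact_mul (k := k),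
            show Comod.coact (k := k) (A := A) (α (S q * a)) =
              α.rTensor A (CoalgebraStruct.comul (R := k) (S q * a)) from LinearMap.congr_fun hα _,
            Bialgebra.comul_mul]
          generalize Comod.coact (k := k) (A := A) p = y
          induction y with
          | zero => simp
          | add r s hr hs => simp only [add_mul, TensorProduct.add_tmul, map_add, hr, hs]
          | tmul r s =>
            simp only [Ψ, LinearMap.comp_apply, TensorProduct.assoc_tmul, TensorProduct.map_tmul, LinearMap.mul'_apply,
              LinearMap.flip_apply, LinearMap.mul_apply', AlgHom.toLinearMap_apply,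
              Algebra.TensorProduct.includeLeft_apply, Algebra.TensorProduct.includeRight_apply]
            rw [mul_assoc]
            generalize CoalgebraStruct.comul (R := k) (S q) * CoalgebraStruct.comul (R := k) a = m
            induction m with
            | zero => simp
            | add m n hm hn => simp only [map_add, mul_add, hm, hn]
            | tmul m n => simp [Algebra.TensorProduct.tmul_mul_tmul]
      rw [h3]
      have hc := LinearMap.congr_fun (Comod.coassoc (k := k) (A := A) (V := B)) b
      simp only [LinearMap.comp_apply, LinearEquiv.coe_coe] at hc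
      rw [hc]
      generalize Comod.coact (k := k) (A := A) b = z
      induction z with
      | zero => simp
      | add p q hp hq => simp only [TensorProduct.add_tmul, map_add, hp, hq]
      | tmul p q =>
        simp only [Ψ, LinearMap.comp_apply, LinearMap.lTensor_tmul, TensorProduct.map_tmul, LinearMap.mul'_apply,
          LinearMap.flip_apply, LinearMap.mul_apply']
        rw [comul_antipode_key]
        generalize CoalgebraStruct.comul (R := k) a = u
        induction u with
        | zero => simp
        | add u v hu hv => simp only [mul_add, TensorProduct.tmul_add, map_add, hu, hv]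
        | tmul u v => simp [θ, S, Algebra.TensorProduct.tmul_mul_tmul]
  · refine LinearMap.ext fun b => ?_
    simp only [Hoch.toInd, LinearMap.comp_apply, LinearEquiv.coe_coe, LinearEquiv.symm_apply_apply, lam₀,
      LinearMap.id_apply]
    have h := congrArg (fun t => LinearMap.mul' k B (α.lTensor B t)) (coact_antipode_left (k := k) (A := A) b)
    simp only [LinearMap.lTensor_tmul, LinearMap.mul'_apply, hα1, mul_one, LinearMap.lTensor_comp,
      LinearMap.comp_apply] at h
    exact h

end Groth.Agent.HopfMod
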